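import Mathlib.CategoryTheory.Abelian.RightDerived
import Mathlib.Algebra.Homology.Augment
import Mathlib.Algebra.Homology.Homotopy

/-!
# Right acyclicity of an adapted class of objects
-/

set_option linter.style.haveILetI false

universe v v' u u'

open CategoryTheory CategoryTheory.Limits

noncomputable section

namespace Groth.Agent.AcyclicClass

variable {A : Type u} [Category.{v} A] [Abelian A] (𝒪 : ObjectProperty A)
  (C : CochainComplex A ℕ) (h0 : ∀ X Y : A, 𝒪 X → 𝒪 Y → 𝒪 (X ⊞ Y))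
  (hC0 : 𝒪 (C.X 0)) (Z : ℕ → A) (hZ : ∀ n, 𝒪 (Z n)) (s : ∀ n, C.X (n + 1) ⟶ Z n)
  (r : ∀ n, Z n ⟶ C.X (n + 1)) (hsr : ∀ n, s n ≫ r n = 𝟙 _)

/-- An object of the class containing a term of the complex as a summand. -/
structure St (n : ℕ) where
  /-- The object. -/
  Y : A
  mem : 𝒪 Y
  /-- The inclusion of the term. -/
  ι : C.X n ⟶ Y
  /-- The projection to the term. -/
  p : Y ⟶ C.X n
  /-- The idempotent of the complement that is to be killed. -/
  e : Y ⟶ Y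
  ιp : ι ≫ p = 𝟙 _
  ιe : ι ≫ e = 0
  ep : e ≫ p = 0
  ee : e ≫ e = e

variable {𝒪 C}

/-- The next object. -/
@[reducible]
def step {n : ℕ} (T : St 𝒪 C n) : St 𝒪 C (n + 1) where
  Y := Z n ⊞ T.Y
  mem := h0 _ _ (hZ n) T.mem
  ι := s n ≫ biprod.inl
  p := biprod.fst ≫ r n
  e := 𝟙 _ - biprod.fst ≫ r n ≫ s n ≫ biprod.inl - biprod.snd ≫ T.e ≫ biprod.inr
  ιp := by simp [hsr]
  ιe := by simp [Preadditive.comp_sub, reassoc_of% (hsr n)]
  ep := by simp [Preadditive.sub_comp, hsr]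
  ee := by
    simp [Preadditive.comp_sub, Preadditive.sub_comp, reassoc_of% (hsr n), reassoc_of% T.ee]

/-- The differential out of an object. -/
def dT {n : ℕ} (T : St 𝒪 C n) : T.Y ⟶ Z n ⊞ T.Y :=
  T.p ≫ C.d n (n + 1) ≫ s n ≫ biprod.inl + T.e ≫ biprod.inr

theorem dT_sq {n : ℕ} (T : St 𝒪 C n) :
    dT Z s T ≫ dT Z s (step h0 Z hZ s r hsr T) = 0 := by
  simp [dT, Preadditive.comp_sub, Preadditive.sub_comp, Preadditive.comp_add,
    Preadditive.add_comp, reassoc_of% (hsr n), reassoc_of% T.ee, reassoc_of% T.ep]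

theorem ι_dT {n : ℕ} (T : St 𝒪 C n) :
    T.ι ≫ dT Z s T = C.d n (n + 1) ≫ (step h0 Z hZ s r hsr T).ι := by
  simp [dT, Preadditive.comp_add, reassoc_of% T.ιp, reassoc_of% T.ιe]

theorem p_dT {n : ℕ} (T : St 𝒪 C n) :
    T.p ≫ C.d n (n + 1) = dT Z s T ≫ (step h0 Z hZ s r hsr T).p := by
  simp [dT, Preadditive.add_comp, hsr]

theorem homotopy_dT {n : ℕ} (T : St 𝒪 C n) :
    𝟙 (Z n ⊞ T.Y) - (step h0 Z hZ s r hsr T).p ≫ (step h0 Z hZ s r hsr T).ι =
      dT Z s (step h0 Z hZ s r hsr T) ≫ biprod.snd ≫ (step h0 Z hZ s r hsr T).e +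
        (biprod.snd ≫ T.e) ≫ dT Z s T := by
  simp [dT, Preadditive.comp_sub, Preadditive.sub_comp, Preadditive.comp_add,
    Preadditive.add_comp, reassoc_of% T.ee, reassoc_of% T.ep, reassoc_of% (hsr n)]

variable (𝒪 C)

/-- The objects, by recursion on the degree. -/
def st : ∀ n, St 𝒪 C n
  | 0 => ⟨C.X 0, hC0, 𝟙 _, 𝟙 _, 0, by simp, by simp, by simp, by simp⟩
  | n + 1 => step h0 Z hZ s r hsr (st n)

local notation "S" => st 𝒪 C h0 hC0 Z hZ s r hsr

/-- The differential of the enlarged complex. -/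
def dd (n : ℕ) : (S n).Y ⟶ (S (n + 1)).Y :=
  dT Z s (S n)

theorem dd_sq (n : ℕ) : dd 𝒪 C h0 hC0 Z hZ s r hsr n ≫ dd 𝒪 C h0 hC0 Z hZ s r hsr (n + 1) = 0 :=
  dT_sq h0 Z hZ s r hsr (S n)

/-- The enlarged complex. -/
def big : CochainComplex A ℕ :=
  CochainComplex.of (fun n => (S n).Y) (dd 𝒪 C h0 hC0 Z hZ s r hsr)
    (dd_sq 𝒪 C h0 hC0 Z hZ s r hsr)

theorem big_d (n : ℕ) :
    (big 𝒪 C h0 hC0 Z hZ s r hsr).d n (n + 1) = dd 𝒪 C h0 hC0 Z hZ s r hsr n :=
  CochainComplex.of_d (fun n => (S n).Y) (dd 𝒪 C h0 hC0 Z hZ s r hsr) n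

/-- The inclusion of the complex. -/
def inc : C ⟶ big 𝒪 C h0 hC0 Z hZ s r hsr where
  f n := (S n).ι
  comm' i j (hij : i + 1 = j) := by
    subst hij
    rw [big_d]
    exact ι_dT h0 Z hZ s r hsr (S i)

/-- The projection to the complex. -/
def proj : big 𝒪 C h0 hC0 Z hZ s r hsr ⟶ C where
  f n := (S n).p
  comm' i j (hij : i + 1 = j) := by
    subst hij
    rw [big_d]
    exact p_dT h0 Z hZ s r hsr (S i)

theorem inc_proj : inc 𝒪 C h0 hC0 Z hZ s r hsr ≫ proj 𝒪 C h0 hC0 Z hZ s r hsr = 𝟙 C := by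
  ext n
  exact (S n).ιp

/-- The null homotopy. -/
def hh (i j : ℕ) (hij : (ComplexShape.up ℕ).Rel j i) :
    (big 𝒪 C h0 hC0 Z hZ s r hsr).X i ⟶ (big 𝒪 C h0 hC0 Z hZ s r hsr).X j :=
  (show j + 1 = i from hij) ▸
    (biprod.snd ≫ (S j).e : (S (j + 1)).Y ⟶ (S j).Y)

theorem hh_eq (j : ℕ) (hij : (ComplexShape.up ℕ).Rel j (j + 1)) :
    hh 𝒪 C h0 hC0 Z hZ s r hsr (j + 1) j hij = biprod.snd ≫ (S j).e :=
  rfl

theorem id_sub_proj_inc :
    𝟙 (big 𝒪 C h0 hC0 Z hZ s r hsr) -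
      proj 𝒪 C h0 hC0 Z hZ s r hsr ≫ inc 𝒪 C h0 hC0 Z hZ s r hsr =
        Homotopy.nullHomotopicMap' (hh 𝒪 C h0 hC0 Z hZ s r hsr) := by
  ext n
  rcases n with _ | n
  · rw [Homotopy.nullHomotopicMap'_f_of_not_rel_right (show (ComplexShape.up ℕ).Rel 0 1 from rfl)
      (fun l (hl : l + 1 = 0) => Nat.succ_ne_zero l hl), hh_eq]
    simp only [HomologicalComplex.sub_f_apply, HomologicalComplex.id_f, HomologicalComplex.comp_f]
    rw [big_d]
    show 𝟙 (C.X 0) - 𝟙 (C.X 0) ≫ 𝟙 (C.X 0) =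
      dT Z s (S 0) ≫ biprod.snd ≫ (0 : C.X 0 ⟶ C.X 0)
    rw [Category.comp_id, sub_self]
    exact ((congrArg (fun k => dT Z s (S 0) ≫ k) Limits.comp_zero).trans Limits.comp_zero).symm
  · rw [Homotopy.nullHomotopicMap'_f (c := ComplexShape.up ℕ) (k₂ := n) (k₁ := n + 1)
      (k₀ := n + 1 + 1) rfl rfl, big_d, big_d, hh_eq, hh_eq]
    exact homotopy_dT h0 Z hZ s r hsr (S n)

include h0 hC0 hZ hsr in
/-- An acyclic complex of retracts of members of an adapted class stays acyclic. -/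
theorem acyclic_map {B : Type u'} [Category.{v'} B] [Abelian B] (f : A ⥤ B) [f.Additive]
    (h1 : ∀ K : CochainComplex A ℕ, (∀ i, 𝒪 (K.X i)) → K.Acyclic →
      ((f.mapHomologicalComplex (ComplexShape.up ℕ)).obj K).Acyclic)
    (hC : C.Acyclic) : ((f.mapHomologicalComplex (ComplexShape.up ℕ)).obj C).Acyclic := by
  let K := big 𝒪 C h0 hC0 Z hZ s r hsr
  let ι : C ⟶ K := inc 𝒪 C h0 hC0 Z hZ s r hsr
  let π : K ⟶ C := proj 𝒪 C h0 hC0 Z hZ s r hsr
  have hK : K.Acyclic := by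
    intro i
    rw [HomologicalComplex.exactAt_iff_isZero_homology, IsZero.iff_id_eq_zero]
    have h := (Homotopy.nullHomotopy' (hh 𝒪 C h0 hC0 Z hZ s r hsr)).homologyMap_eq i
    rw [← id_sub_proj_inc, HomologicalComplex.homologyMap_sub, HomologicalComplex.homologyMap_id,
      HomologicalComplex.homologyMap_comp, HomologicalComplex.homologyMap_zero, sub_eq_zero] at h
    rw [h, ((hC i).isZero_homology).eq_of_tgt (HomologicalComplex.homologyMap π i) 0, zero_comp]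
  have hfK := h1 K (fun i => (S i).mem) hK
  intro i
  rw [HomologicalComplex.exactAt_iff_isZero_homology, IsZero.iff_id_eq_zero]
  have e : HomologicalComplex.homologyMap ((f.mapHomologicalComplex _).map ι) i ≫
      HomologicalComplex.homologyMap ((f.mapHomologicalComplex _).map π) i = 𝟙 _ := by
    rw [← HomologicalComplex.homologyMap_comp, ← Functor.map_comp]
    simp [ι, π, inc_proj]
  rw [← e, ((hfK i).isZero_homology).eq_of_tgt
    (HomologicalComplex.homologyMap ((f.mapHomologicalComplex _).map ι) i) 0, zero_comp]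

omit h0 hC0 hZ hsr

/-- The augmented injective resolution is acyclic. -/
theorem augment_acyclic {X : A} (I : InjectiveResolution X) :
    (CochainComplex.augment I.cocomplex (I.ι.f 0) I.ι_f_zero_comp_complex_d).Acyclic := by
  intro i
  rcases i with _ | _ | i
  · rw [HomologicalComplex.exactAt_iff' _ 0 0 1 CochainComplex.prev_nat_zero (by simp)]
    refine (ShortComplex.exact_iff_mono _ ?_).mpr ?_
    · rfl
    · exact (inferInstance : Mono (I.ι.f 0))
  · rw [HomologicalComplex.exactAt_iff' _ 0 1 2 (by simp) (by simp)]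
    exact ShortComplex.exact_of_f_is_kernel _ I.isLimitKernelFork
  · rw [HomologicalComplex.exactAt_iff' _ (i + 1) (i + 2) (i + 3) (by simp) (by simp)]
    exact I.exact_succ i

end Groth.Agent.AcyclicClass
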